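import Groth.Agent.CycLib.VecBdl.Completion
import Groth.Agent.CycLib.ProjBdl.ChernFunct
import Groth.Agent.RelSpecLib.Local
import Groth.Agent.SymLib.Affine
import Groth.Agent.FinCov71.Rank

/-!
A vector bundle of rank `r` is flat of relative dimension `r`.
-/

set_option autoImplicit false
set_option linter.style.haveILetI false
set_option maxHeartbeats 1000000

universe u

open CategoryTheory CategoryTheory.Limits AlgebraicGeometry TopologicalSpace Opposite

noncomputable section

namespace Groth.Agent.CycLib.DualBdl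

open Groth.Agent.CycLib.Dev Groth.Agent.CycLib.ProjBdl

variable {X : Scheme.{u}} {ℰ : X.Modules} {A : RelSpec.QCAlg X} {j : ℰ ⟶ A.toModule}

theorem isIso_π_of_rank_zero [ℰ.IsQuasicoherent] (hE : FlatMod.IsFinLocFreeOfRank 0 ℰ)
    (hA : RelSpec.IsSymAlg ℰ A j) : IsIso A.π := by
  have h0 : ∀ (U : X.Opens) (m : Γ(ℰ, U)), m = 0 := fun U m => by
    refine TopCat.Presheaf.section_ext ⟨_, ℰ.isSheaf⟩ U _ _ fun y hy => ?_
    obtain ⟨W, e, hyW, he⟩ := FinCov71.exists_isFrame_rank hE y
    have hb := he.stalkComb_bijective y hyW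
    haveI : Subsingleton (Fin 0 → X.presheaf.stalk y) := inferInstance
    haveI := hb.2.subsingleton
    exact Subsingleton.elim (α := ℰ.presheaf.stalk y) _ _
  refine RelSpecLib.π_property (MorphismProperty.isomorphisms Scheme.{u}) fun U hU => ?_
  have hbij : Function.Bijective (A.str.app (op U)).hom := by
    have hb : Function.Bijective (algebraMap Γ(X, U) (SymmetricAlgebra Γ(X, U) Γ(ℰ, U))) := by
      refine ⟨(SymmetricAlgebra.algebraMap_leftInverse (M := Γ(ℰ, U))).injective, fun x => ?_⟩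
      induction x using SymmetricAlgebra.induction with
      | algebraMap r => exact ⟨r, rfl⟩
      | ι m => exact ⟨0, by rw [h0 U m, map_zero, map_zero]⟩
      | mul a b ha hb =>
        obtain ⟨a', rfl⟩ := ha
        obtain ⟨b', rfl⟩ := hb
        exact ⟨a' * b', map_mul _ _ _⟩
      | add a b ha hb =>
        obtain ⟨a', rfl⟩ := ha
        obtain ⟨b', rfl⟩ := hb
        exact ⟨a' + b', map_add _ _ _⟩
    have e : ⇑(A.str.app (op U)).hom = SymLib.affLift j U ∘ algebraMap _ _ :=
      funext fun r => (SymLib.affLift_algebraMap j U r).symm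
    rw [e]
    exact (SymLib.affLift_bijective hA hU).comp hb
  haveI : IsIso (A.str.app (op U)) := (ConcreteCategory.isIso_iff_bijective _).2 hbij
  exact inferInstanceAs (IsIso _)

theorem shift_vectorBundle [IsLocallyNoetherian X] {δ : X → ℤ} {r : ℕ} (hq : Coh.IsQCoh ℰ)
    (hE : FlatMod.IsFinLocFreeOfRank r ℰ) (hA : RelSpec.IsSymAlg ℰ A j) (hX : Cyc.IsSetup X δ)
    {δE : ↥A.spec → ℤ} (hδ : Cyc.DeltaCompat A.π δE δ) :
    Flat A.π ∧ LocallyOfFiniteType A.π ∧ ShiftBy A.π δE δ (r : ℤ) ∧ Cyc.HasRelDim A.π r := by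
  haveI : ℰ.IsQuasicoherent := hq
  have huniq : ∀ (δ' : ↥A.spec → ℤ), Cyc.DeltaCompat A.π δ' δ → ∀ x, δE x = δ' x := fun δ' h x => by
    obtain ⟨n, hn, hn'⟩ := hδ x
    obtain ⟨m, hm, hm'⟩ := h x
    have : n = m := Nat.cast_injective (R := Cardinal) (hn.symm.trans hm)
    omega
  have main : Flat A.π ∧ LocallyOfFiniteType A.π ∧ ShiftBy A.π δE δ (r : ℤ) := by
    rcases Nat.eq_zero_or_pos r with rfl | hr
    · haveI := isIso_π_of_rank_zero hE hA
      refine ⟨inferInstance, inferInstance, fun x _ => ?_⟩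
      rw [huniq _ (deltaCompat_preimmersion A.π δ) x, Nat.cast_zero, add_zero]
    · obtain ⟨P, p, O1, i, L, hi, hip, hp, -, -, -⟩ := VecBdl.exists_completion hq hr hE hA
      haveI := hi
      haveI := hp
      haveI := L.flat
      obtain ⟨δP, hP, hδP⟩ := VecBdl.exists_setup p hX
      have hδi : ∀ x, δE x = δP (i x) := huniq _ (by
        rw [← hip]
        exact deltaCompat_comp (deltaCompat_preimmersion i δP) hδP)
      refine ⟨hip ▸ inferInstance, hip ▸ inferInstance, fun x hx => ?_⟩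
      have h := L.shiftBy hP.2.2 hδP (i x) fun z hz hsp => by
        obtain ⟨x', rfl⟩ : z ∈ Set.range i := hsp.mem_open i.opensRange.2 ⟨x, rfl⟩
        have hsp' : x' ⤳ x := i.isOpenEmbedding.isInducing.specializes_iff.1 hsp
        rw [hx x' (by rw [← hip, Scheme.Hom.comp_apply, Scheme.Hom.comp_apply]; exact hz) hsp']
      rw [hδi, h, ← hip, Scheme.Hom.comp_apply]
      push_cast
      ring
  obtain ⟨h1, h2, h3⟩ := main
  refine ⟨h1, h2, h3, ?_⟩
  haveI := h2
  exact hasRelDim_of_trdeg A.π fun x hx => by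
    obtain ⟨n, hn, hn'⟩ := hδ x
    have := h3 x hx
    rw [hn, show n = r by omega]

end Groth.Agent.CycLib.DualBdl
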