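import Groth.Agent.CycLib.RelTop.Main
import Mathlib.RingTheory.Polynomial.Basic

/-!
A set of variables is regular on a polynomial ring modulo an ideal of the coefficients; kernels on
stalks of closed immersions over affine opens.
-/

set_option autoImplicit false
set_option linter.style.haveILetI false
set_option maxHeartbeats 800000

universe u

open CategoryTheory AlgebraicGeometry RingTheory.Sequence MvPolynomial

noncomputable section

namespace Groth.Agent.CycLib.DualBdl

open RelTop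

/-- A criterion for a sequence to be regular modulo an ideal. -/
theorem regSeq_of {R : Type u} [CommRing R] {r : ℕ} (I : Ideal R) (g : Fin r → R)
    (h : ∀ (i : Fin r) (y : R), y * g i ∈ I ⊔ Ideal.span (g '' {k | k < i}) → y ∈ I ⊔ Ideal.span (g '' {k | k < i}))
    (hne : I ⊔ Ideal.span (Set.range g) ≠ ⊤) : RegSeq r I (Ideal.span (Set.range g)) := by
  refine ⟨g, ⟨(isWeaklyRegular_iff _ _).2 fun i hi => ?_, ?_⟩, rfl⟩
  · rw [List.length_ofFn] at hi
    have htake : Ideal.ofList ((List.ofFn fun k => Ideal.Quotient.mk I (g k)).take i) =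
        (Ideal.span (g '' {k | k < (⟨i, hi⟩ : Fin r)})).map (Ideal.Quotient.mk I) := by
      rw [Ideal.map_span, Ideal.ofList, ← Set.image_comp]
      congr 1
      ext x
      constructor
      · intro hx
        obtain ⟨k, hk, rfl⟩ := List.mem_take_iff_getElem.1 hx
        simp only [List.length_ofFn, lt_min_iff] at hk
        exact ⟨⟨k, hk.2⟩, hk.1, by simp⟩
      · rintro ⟨k, hk, rfl⟩
        exact List.mem_take_iff_getElem.2 ⟨k, by simp only [List.length_ofFn, lt_min_iff]; exact ⟨hk, k.2⟩, by simp⟩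
    refine IsSMulRegular.of_right_eq_zero_of_smul fun x hx => ?_
    obtain ⟨x, rfl⟩ := Submodule.Quotient.mk_surjective _ x
    obtain ⟨y, rfl⟩ := Ideal.Quotient.mk_surjective x
    rw [← Submodule.Quotient.mk_smul, Submodule.Quotient.mk_eq_zero] at hx
    rw [Submodule.Quotient.mk_eq_zero]
    have hmem : ∀ z : R, Ideal.Quotient.mk I z ∈
        Ideal.ofList ((List.ofFn fun k => Ideal.Quotient.mk I (g k)).take i) • (⊤ : Submodule (R ⧸ I) (R ⧸ I)) ↔
        z ∈ I ⊔ Ideal.span (g '' {k | k < (⟨i, hi⟩ : Fin r)}) := fun z => by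
      rw [Ideal.smul_eq_mul, Ideal.mul_top, htake, ← Ideal.mem_comap,
        Ideal.comap_map_of_surjective' _ Ideal.Quotient.mk_surjective, Ideal.mk_ker, sup_comm]
    rw [hmem]
    refine h ⟨i, hi⟩ y ((hmem _).1 ?_)
    simpa [mul_comm y, List.getElem_ofFn] using hx
  · intro htop
    refine hne (eq_top_iff.2 fun z _ => ?_)
    have : Ideal.Quotient.mk I z ∈ (Ideal.span (Set.range g)).map (Ideal.Quotient.mk I) := by
      have hz : Ideal.Quotient.mk I z ∈ (⊤ : Submodule (R ⧸ I) (R ⧸ I)) := trivial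
      rw [htop, Ideal.smul_eq_mul, Ideal.mul_top, Ideal.ofList] at hz
      rw [Ideal.map_span, ← Set.range_comp]
      refine Ideal.span_mono (fun x hx => ?_) hz
      obtain ⟨k, rfl⟩ := List.mem_ofFn.1 hx
      exact ⟨k, rfl⟩
    rw [← Ideal.mem_comap, Ideal.comap_map_of_surjective' _ Ideal.Quotient.mk_surjective, Ideal.mk_ker,
      sup_comm] at this
    exact this

universe w

variable {R : Type u} {σ : Type w} [CommRing R]

open Classical in
/-- Setting the variables in a set to zero. -/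
def zeroOut (S : Set σ) : MvPolynomial σ R →ₐ[R] MvPolynomial σ R := aeval fun k => if k ∈ S then 0 else X k

theorem sub_zeroOut_mem (S : Set σ) (f : MvPolynomial σ R) :
    f - zeroOut S f ∈ Ideal.span ((X : σ → MvPolynomial σ R) '' S) := by
  classical
  rw [← Ideal.Quotient.mk_eq_mk_iff_sub_mem]
  refine RingHom.congr_fun (f := Ideal.Quotient.mk (Ideal.span ((X : σ → MvPolynomial σ R) '' S)))
    (g := (Ideal.Quotient.mk _).comp (zeroOut S : MvPolynomial σ R →ₐ[R] MvPolynomial σ R).toRingHom)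
    (MvPolynomial.ringHom_ext (fun r => by simp [zeroOut]) fun k => ?_) f
  simp only [RingHom.comp_apply, AlgHom.toRingHom_eq_coe, RingHom.coe_coe, zeroOut, aeval_X]
  split_ifs with hk
  · rw [map_zero, Ideal.Quotient.eq_zero_iff_mem]
    exact Ideal.subset_span ⟨k, hk, rfl⟩
  · rfl

theorem mem_sup_iff (p : Ideal R) (S : Set σ) (f : MvPolynomial σ R) :
    f ∈ p.map (C : R →+* MvPolynomial σ R) ⊔ Ideal.span ((X : σ → MvPolynomial σ R) '' S) ↔
      MvPolynomial.map (Ideal.Quotient.mk p) (zeroOut S f) = 0 := by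
  classical
  constructor
  · intro hf
    refine (sup_le ?_ ?_ : _ ≤ RingHom.ker ((MvPolynomial.map (Ideal.Quotient.mk p)).comp
      (zeroOut S : MvPolynomial σ R →ₐ[R] MvPolynomial σ R).toRingHom)) hf
    · refine Ideal.map_le_iff_le_comap.2 fun r hr => ?_
      simp [zeroOut, Ideal.Quotient.eq_zero_iff_mem.2 hr]
    · refine Ideal.span_le.2 ?_
      rintro _ ⟨k, hk, rfl⟩
      simp [zeroOut, hk]
  · intro hf
    rw [show f = (f - zeroOut S f) + zeroOut S f by ring]
    refine add_mem (Ideal.mem_sup_right (sub_zeroOut_mem S f)) (Ideal.mem_sup_left ?_)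
    have : zeroOut S f ∈ RingHom.ker (MvPolynomial.map (σ := σ) (Ideal.Quotient.mk p)) := hf
    rwa [MvPolynomial.ker_map, Ideal.mk_ker] at this

theorem regSeq_vars {r : ℕ} (p : Ideal R) (hp : p ≠ ⊤) (v : Fin r → σ) (hv : Function.Injective v) :
    RegSeq r (p.map (C : R →+* MvPolynomial σ R)) (Ideal.span (Set.range fun k => (X (v k) : MvPolynomial σ R))) := by
  classical
  have him : ∀ T : Set (Fin r), (fun k => (X (v k) : MvPolynomial σ R)) '' T = X '' (v '' T) := fun T => by
    rw [← Set.image_comp]; rfl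
  refine regSeq_of _ _ (fun i y hy => ?_) ?_
  · rw [him, mem_sup_iff] at hy ⊢
    rw [map_mul, map_mul] at hy
    have hi : v i ∉ v '' {k | k < i} := fun ⟨k, hk, e⟩ => absurd (hv e) (ne_of_lt hk)
    simp only [zeroOut, aeval_X, if_neg hi, map_X] at hy
    refine (ZeroTop.isSMulRegular_var (v i)).right_eq_zero_of_smul ?_
    rw [smul_eq_mul, mul_comm]
    exact hy
  · intro htop
    have h1 := (Ideal.eq_top_iff_one _).1 htop
    rw [← Set.image_univ, him, mem_sup_iff, map_one, map_one] at h1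
    haveI : Nontrivial (R ⧸ p) := Ideal.Quotient.nontrivial_iff.2 hp
    exact one_ne_zero h1

theorem ker_stalkMap_of_affine {D V : Scheme.{u}} (i : D ⟶ V) [IsClosedImmersion i] {W : V.Opens}
    (hW : IsAffineOpen W) (d : D) (hd : i d ∈ W) :
    RingHom.ker (i.stalkMap d).hom = (RingHom.ker (i.app W).hom).map (V.presheaf.germ W (i d) hd).hom := by
  refine le_antisymm (fun x hx => ?_) (Ideal.map_le_iff_le_comap.2 fun b hb => ?_)
  · have hW' : IsAffineOpen (i ⁻¹ᵁ W) := hW.preimage i
    letI := V.presheaf.algebra_section_stalk (⟨i d, hd⟩ : W)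
    haveI : IsLocalization.AtPrime (V.presheaf.stalk (i d)) (hW.primeIdealOf ⟨i d, hd⟩).asIdeal :=
      hW.isLocalization_stalk ⟨i d, hd⟩
    letI := D.presheaf.algebra_section_stalk (⟨d, hd⟩ : (i ⁻¹ᵁ W : D.Opens))
    haveI : IsLocalization.AtPrime (D.presheaf.stalk d) (hW'.primeIdealOf ⟨d, hd⟩).asIdeal :=
      hW'.isLocalization_stalk ⟨d, hd⟩
    obtain ⟨⟨b, s⟩, hbs⟩ := IsLocalization.surj (hW.primeIdealOf ⟨i d, hd⟩).asIdeal.primeCompl x
    have hb : D.presheaf.germ (i ⁻¹ᵁ W) d hd (i.app W b) = 0 := by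
      rw [← Scheme.Hom.germ_stalkMap_apply]
      show (i.stalkMap d) (algebraMap _ _ b) = 0
      rw [← hbs, map_mul, show (i.stalkMap d) x = 0 from hx, zero_mul]
    obtain ⟨⟨t, ht⟩, e⟩ := (IsLocalization.map_eq_zero_iff (hW'.primeIdealOf ⟨d, hd⟩).asIdeal.primeCompl
      (D.presheaf.stalk d) _).1 hb
    obtain ⟨t₀, rfl⟩ := i.app_surjective W hW t
    have hker : t₀ * b ∈ RingHom.ker (i.app W).hom := by
      show (i.app W) (t₀ * b) = 0
      rw [map_mul]
      exact e
    have hu : IsUnit (V.presheaf.germ W (i d) hd t₀) := by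
      have h1 : IsUnit ((i.stalkMap d) (V.presheaf.germ W (i d) hd t₀)) := by
        rw [Scheme.Hom.germ_stalkMap_apply]
        exact IsLocalization.map_units (D.presheaf.stalk d)
          (⟨(i.app W).hom t₀, ht⟩ : (hW'.primeIdealOf ⟨d, hd⟩).asIdeal.primeCompl)
      exact isUnit_of_map_unit (i.stalkMap d).hom _ h1
    have hs : IsUnit (algebraMap _ (V.presheaf.stalk (i d)) (s : Γ(V, W))) := IsLocalization.map_units _ s
    refine (Ideal.mul_unit_mem_iff_mem _ hs).1 ?_
    rw [show x * algebraMap _ _ (s : Γ(V, W)) = algebraMap _ _ b from hbs]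
    refine (Ideal.unit_mul_mem_iff_mem _ hu).1 ?_
    have := Ideal.mem_map_of_mem (V.presheaf.germ W (i d) hd).hom hker
    rw [map_mul] at this
    exact this
  · show (i.stalkMap d) (V.presheaf.germ W (i d) hd b) = 0
    rw [Scheme.Hom.germ_stalkMap_apply, show (i.app W) b = 0 from hb, map_zero]

/-- A point at which every section killed by a closed immersion vanishes lies on it. -/
theorem mem_range_of_affine {D V : Scheme.{u}} (i : D ⟶ V) [IsClosedImmersion i] {W : V.Opens}
    (hW : IsAffineOpen W) (z : V) (hz : z ∈ W)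
    (h : (RingHom.ker (i.app W).hom).map (V.presheaf.germ W z hz).hom ≠ ⊤) : z ∈ Set.range i := by
  have hW' : IsAffineOpen (i ⁻¹ᵁ W) := hW.preimage i
  letI := V.presheaf.algebra_section_stalk (⟨z, hz⟩ : W)
  haveI : IsLocalization.AtPrime (V.presheaf.stalk z) (hW.primeIdealOf ⟨z, hz⟩).asIdeal :=
    hW.isLocalization_stalk ⟨z, hz⟩
  have hle : RingHom.ker (i.app W).hom ≤ (hW.primeIdealOf ⟨z, hz⟩).asIdeal := fun b hb => by
    by_contra hnot
    exact h (Ideal.eq_top_of_isUnit_mem _ (Ideal.mem_map_of_mem _ hb)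
      (IsLocalization.map_units (V.presheaf.stalk z)
        (⟨b, hnot⟩ : (hW.primeIdealOf ⟨z, hz⟩).asIdeal.primeCompl)))
  obtain ⟨Q, hQ⟩ : ∃ Q, PrimeSpectrum.comap (i.app W).hom Q = hW.primeIdealOf ⟨z, hz⟩ := by
    have : hW.primeIdealOf ⟨z, hz⟩ ∈ Set.range (PrimeSpectrum.comap (i.app W).hom) := by
      rw [range_comap_of_surjective _ (i.app W).hom (i.app_surjective W hW)]
      exact (PrimeSpectrum.mem_zeroLocus _ _).2 hle
    exact this
  refine ⟨hW'.fromSpec Q, ?_⟩
  have e := congr(($(IsAffineOpen.SpecMap_appLE_fromSpec i hW hW' le_rfl)) Q)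
  have e' : hW.fromSpec ((Spec.map (i.appLE W (i ⁻¹ᵁ W) le_rfl)) Q) = i (hW'.fromSpec Q) := e
  refine e'.symm.trans ?_
  rw [show i.appLE W (i ⁻¹ᵁ W) le_rfl = i.app W from (Scheme.Hom.app_eq_appLE i).symm]
  show hW.fromSpec (PrimeSpectrum.comap (i.app W).hom Q) = z
  rw [hQ]
  exact IsAffineOpen.fromSpec_primeIdealOf hW ⟨z, hz⟩

end Groth.Agent.CycLib.DualBdl
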