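import Groth.Agent.CycLib.DualBdl.Sect
import Groth.Agent.CycLib.DualBdl.Poly
import Mathlib.LinearAlgebra.SymmetricAlgebra.Basis

/-!
The section of the quotient on the bundle of the dual cuts out the bundle of the sub-bundle.
-/

set_option autoImplicit false
set_option linter.style.haveILetI false
set_option maxHeartbeats 1600000

universe u

open CategoryTheory CategoryTheory.Limits AlgebraicGeometry TopologicalSpace Opposite

noncomputable section

namespace Groth.Agent.CycLib.DualBdl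

open Groth.Agent.PullStalk.Sky Groth.Agent.LFFrame Groth.Agent.CycLib.RelTop Groth.Agent.CycLib.ZeroTop

variable {X : Scheme.{u}}

/-- The dual of a finite locally free module has the same rank. -/
theorem isFinLocFreeOfRank_dual {N : X.Modules} [DCoh.HasSheafHom N] [N.IsQuasicoherent]
    [(dualM N).IsQuasicoherent] {m : ℕ} (hN : FlatMod.IsFinLocFreeOfRank m N) :
    FlatMod.IsFinLocFreeOfRank m (dualM N) :=
  FinCov71.isFinLocFreeOfRank_of_frames fun x => by
    obtain ⟨W, n, hxW, hn⟩ := FinCov71.exists_isFrame_rank hN x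
    obtain ⟨U, hU, hxU, hUW⟩ := exists_isAffineOpen_mem_and_subset hxW
    exact ⟨U, _, hxU, Desc44.ProjBundle.isFrame_of_basis hU
      (dualBasis hU (Desc44.ProjBundle.isFrame_restrict hn hUW))⟩

section poly

variable {N : X.Modules} [DCoh.HasSheafHom N] [N.IsQuasicoherent] [(dualM N).IsQuasicoherent]
  {A : RelSpec.QCAlg X} {j : dualM N ⟶ A.toModule} (hA : RelSpec.IsSymAlg (dualM N) A j)
  {U : X.Opens} (hU : IsAffineOpen U) {m : ℕ} {n : Fin m → Γ(N, U)} (hn : IsFrame N U n)

/-- Functions on the bundle over a framed affine open, as polynomials. -/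
def polyB : MvPolynomial (Fin m) Γ(X, U) ≃+* A.presheaf.obj (op U) :=
  (SymmetricAlgebra.equivMvPolynomial (dualBasis hU hn)).symm.toRingEquiv.trans
    (RingEquiv.ofBijective _ (SymLib.affLift_bijective hA hU))

theorem polyB_C (r : Γ(X, U)) : polyB hA hU hn (MvPolynomial.C r) = (A.str.app (op U)).hom r := by
  show SymLib.affLift j U ((SymmetricAlgebra.equivMvPolynomial (dualBasis hU hn)).symm (MvPolynomial.C r)) = _
  rw [← MvPolynomial.algebraMap_eq, AlgEquiv.commutes, SymLib.affLift_algebraMap]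

theorem polyB_X (k : Fin m) : polyB hA hU hn (MvPolynomial.X k) = j.app U (df hU hn k) := by
  show SymLib.affLift j U ((SymmetricAlgebra.equivMvPolynomial (dualBasis hU hn)).symm (MvPolynomial.X k)) = _
  rw [SymmetricAlgebra.equivMvPolynomial_symm_X, SymLib.affLift_ι, dualBasis_apply]

/-- The same on sections of the structure sheaf. -/
def polyV : MvPolynomial (Fin m) Γ(X, U) ≃+* Γ(A.spec, A.π ⁻¹ᵁ U) :=
  (polyB hA hU hn).trans
    (haveI := Omega.VectorBundle.isIso_gammaAff (A := A) U hU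
     (asIso (A.gammaAff U hU)).commRingCatIsoToRingEquiv).symm

theorem gamma_polyV (f : MvPolynomial (Fin m) Γ(X, U)) :
    A.gammaAff U hU (polyV hA hU hn f) = polyB hA hU hn f := by
  haveI := Omega.VectorBundle.isIso_gammaAff (A := A) U hU
  exact (asIso (A.gammaAff U hU)).commRingCatIsoToRingEquiv.apply_symm_apply _

theorem polyV_C (r : Γ(X, U)) : polyV hA hU hn (MvPolynomial.C r) = A.π.app U r := by
  refine gamma_injective (A := A) U hU ?_
  rw [gamma_polyV, polyB_C]
  exact (CategoryTheory.congr_fun (RelSpec.QCAlg.π_app_gammaAff A U hU) r).symm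

theorem polyV_X (k : Fin m) : polyV hA hU hn (MvPolynomial.X k) = tV j U hU (df hU hn k) := by
  refine gamma_injective (A := A) U hU ?_
  rw [gamma_polyV, polyB_X, gamma_tV]

end poly

variable {N' N E : X.Modules} [DCoh.HasSheafHom N] [DCoh.HasSheafHom N'] [N.IsQuasicoherent] [N'.IsQuasicoherent]
  [(dualM N).IsQuasicoherent] [(dualM N').IsQuasicoherent] {A A' : RelSpec.QCAlg X}
  {j : dualM N ⟶ A.toModule} {j' : dualM N' ⟶ A'.toModule} (φ : A ⟶ A')

/-- Restriction along the morphism of spectra, read on sections over the base. -/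
theorem gamma_specMap {U : X.Opens} (hU : IsAffineOpen U)
    (h : A'.π ⁻¹ᵁ U ≤ RelSpec.QCAlg.specMap φ ⁻¹ᵁ (A.π ⁻¹ᵁ U)) :
    (RelSpec.QCAlg.specMap φ).appLE (A.π ⁻¹ᵁ U) (A'.π ⁻¹ᵁ U) h ≫ A'.gammaAff U hU =
      A.gammaAff U hU ≫ φ.hom.app (op U) := by
  rw [RelSpec.QCAlg.gammaAff, RelSpec.QCAlg.gammaAff, Scheme.Hom.appLE_comp_appLE_assoc]
  simp only [RelSpec.QCAlg.ι_specMap U hU φ]
  rw [← Scheme.Hom.appLE_comp_appLE (Spec.map (φ.hom.app (op U))) (A.ι U hU) (A.π ⁻¹ᵁ U) ⊤ ⊤
    (A.top_le_preimage U hU) (fun _ _ => trivial), Category.assoc, Category.assoc]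
  congr 1
  rw [← Scheme.ΓSpecIso_naturality]
  simp [Scheme.Hom.appTop, Scheme.Hom.app_eq_appLE]

/-- Forgetting the last variables. -/
abbrev kill (R : Type u) [CommRing R] (r' e : ℕ) : MvPolynomial (Fin (r' + e)) R →ₐ[R] MvPolynomial (Fin r') R :=
  MvPolynomial.aeval (Fin.append MvPolynomial.X fun _ : Fin e => 0)

theorem kill_eq_zero_iff {R : Type u} [CommRing R] {r' e : ℕ} (f : MvPolynomial (Fin (r' + e)) R) :
    kill R r' e f = 0 ↔ f ∈ Ideal.span (Set.range fun l : Fin e =>
      (MvPolynomial.X (Fin.natAdd r' l) : MvPolynomial (Fin (r' + e)) R)) := by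
  classical
  constructor
  · intro hf
    have e1 : ∀ g, MvPolynomial.rename (Fin.castAdd e) (kill R r' e g) = zeroOut (Set.range (Fin.natAdd r')) g :=
      fun g => by
      refine AlgHom.congr_fun (φ₁ := (MvPolynomial.rename (R := R) (Fin.castAdd e)).comp (kill R r' e))
        (φ₂ := zeroOut (Set.range (Fin.natAdd r'))) (MvPolynomial.algHom_ext fun k => ?_) g
      induction k using Fin.addCases with
      | left k =>
        have : Fin.castAdd e k ∉ Set.range (Fin.natAdd r' (m := e)) := fun ⟨l, h⟩ => by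
          have := congrArg Fin.val h
          simp only [Fin.val_castAdd, Fin.val_natAdd] at this
          omega
        simp [zeroOut]
        intro x hx
        exact (this ⟨x, hx⟩).elim
      | right k => simp [zeroOut]
    have := sub_zeroOut_mem (R := R) (Set.range (Fin.natAdd r' (m := e))) f
    rw [← e1, hf, map_zero, sub_zero, ← Set.range_comp] at this
    exact this
  · intro hf
    refine (Ideal.span_le.2 ?_ : _ ≤ RingHom.ker (kill R r' e).toRingHom) hf
    rintro _ ⟨l, rfl⟩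
    simp

variable {r' e : ℕ} (a : N' ⟶ N) (b : N ⟶ E) {U : X.Opens} (hU : IsAffineOpen U) {n' : Fin r' → Γ(N', U)}
  (hn' : IsFrame N' U n') {n : Fin (r' + e) → Γ(N, U)} (hn : IsFrame N U n)

theorem mate_df (hna : ∀ i, n (Fin.castAdd e i) = a.app U (n' i)) (k : Fin (r' + e)) :
    (mate a).app U (df hU hn k) = Fin.append (fun l => df hU hn' l) (fun _ : Fin e => 0) k := by
  classical
  refine pr_ext hU hn' fun l => ?_
  rw [pr_mate, ← hna, pr_df]
  induction k using Fin.addCases with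
  | left k =>
    rw [Fin.append_left, pr_df]
    simp [Pi.single_apply, (Fin.castAdd_injective r' e).eq_iff]
    all_goals split_ifs <;> rfl
  | right k =>
    rw [Fin.append_right, pr_zero_right]
    have : Fin.castAdd e l ≠ Fin.natAdd r' k := fun h => by
      have := congrArg Fin.val h
      simp only [Fin.val_castAdd, Fin.val_natAdd] at this
      omega
    simp only [Pi.single_apply, if_neg this]
    rfl

theorem app_polyB (hA : RelSpec.IsSymAlg (dualM N) A j) (hA' : RelSpec.IsSymAlg (dualM N') A' j')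
    (hφ : j ≫ RelSpec.QCAlg.Hom.toModuleMap φ = mate a ≫ j')
    (hna : ∀ i, n (Fin.castAdd e i) = a.app U (n' i)) (f : MvPolynomial (Fin (r' + e)) Γ(X, U)) :
    φ.hom.app (op U) (polyB hA hU hn f) = polyB hA' hU hn' (kill Γ(X, U) r' e f) := by
  refine RingHom.congr_fun (f := (φ.hom.app (op U)).hom.comp (polyB hA hU hn).toRingHom)
    (g := (polyB hA' hU hn').toRingHom.comp (kill Γ(X, U) r' e).toRingHom) (MvPolynomial.ringHom_ext (fun r => ?_) fun k => ?_) f
  · show φ.hom.app (op U) (polyB hA hU hn (MvPolynomial.C r)) = polyB hA' hU hn' (kill Γ(X, U) r' e (MvPolynomial.C r))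
    rw [polyB_C, show kill Γ(X, U) r' e (MvPolynomial.C r) = MvPolynomial.C r from MvPolynomial.aeval_C _ r, polyB_C]
    exact CategoryTheory.congr_fun (NatTrans.congr_app φ.comm (op U)) r
  · show φ.hom.app (op U) (polyB hA hU hn (MvPolynomial.X k)) = polyB hA' hU hn' (kill Γ(X, U) r' e (MvPolynomial.X k))
    rw [polyB_X]
    refine (congr(($hφ).app U (df hU hn k))).trans ?_
    refine (congrArg (j'.app U) (mate_df a hU hn' hn hna k)).trans ?_
    rw [show kill Γ(X, U) r' e (MvPolynomial.X k) = Fin.append MvPolynomial.X (fun _ : Fin e => 0) k from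
      MvPolynomial.aeval_X _ k]
    induction k using Fin.addCases with
    | left k => rw [Fin.append_left, Fin.append_left, polyB_X]
    | right k =>
      rw [Fin.append_right, Fin.append_right, map_zero (polyB hA' hU hn')]
      exact map_zero (j'.app U).hom

theorem ker_app (hA : RelSpec.IsSymAlg (dualM N) A j) (hA' : RelSpec.IsSymAlg (dualM N') A' j')
    (hφ : j ≫ RelSpec.QCAlg.Hom.toModuleMap φ = mate a ≫ j')
    (hn' : IsFrame N' U n') (hn : IsFrame N U n) (hna : ∀ i, n (Fin.castAdd e i) = a.app U (n' i)) :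
    RingHom.ker ((RelSpec.QCAlg.specMap φ).app (A.π ⁻¹ᵁ U)).hom =
      Ideal.span (Set.range fun l : Fin e => tV j U hU (df hU hn (Fin.natAdd r' l))) := by
  let i := RelSpec.QCAlg.specMap φ
  let t : Fin e → Γ(A.spec, A.π ⁻¹ᵁ U) := fun l => tV j U hU (df hU hn (Fin.natAdd r' l))
  have hpre : i ⁻¹ᵁ (A.π ⁻¹ᵁ U) = A'.π ⁻¹ᵁ U := by
    rw [← Scheme.Hom.comp_preimage, RelSpec.QCAlg.specMap_π]
  have hker : RingHom.ker (i.app (A.π ⁻¹ᵁ U)).hom = Ideal.span (Set.range t) := by
    have h1 : ∀ x, (i.app (A.π ⁻¹ᵁ U)) x = 0 ↔ kill Γ(X, U) r' e ((polyV hA hU hn).symm x) = 0 := fun x => by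
      haveI : IsIso (homOfLE hpre.ge) := ⟨homOfLE hpre.le, rfl, rfl⟩
      haveI : IsIso (A'.spec.presheaf.map (homOfLE hpre.ge).op) := inferInstance
      rw [← map_eq_zero_iff (A'.spec.presheaf.map (homOfLE hpre.ge).op).hom
        (ConcreteCategory.bijective_of_isIso (A'.spec.presheaf.map (homOfLE hpre.ge).op)).1,
        ← map_eq_zero_iff (A'.gammaAff U hU).hom (gamma_injective (A := A') U hU)]
      have e1 := CategoryTheory.congr_fun (gamma_specMap φ hU hpre.ge) x
      rw [Scheme.Hom.appLE] at e1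
      refine (Eq.congr_left e1).trans ?_
      conv_lhs => rw [← (polyV hA hU hn).apply_symm_apply x]
      rw [ConcreteCategory.comp_apply, gamma_polyV, app_polyB φ a hU hn' hn hA hA' hφ hna]
      exact map_eq_zero_iff _ (polyB hA' hU hn').injective
    have h2 : Ideal.span (Set.range t) = (Ideal.span (Set.range fun l : Fin e =>
        (MvPolynomial.X (Fin.natAdd r' l) : MvPolynomial (Fin (r' + e)) Γ(X, U)))).map
          (polyV hA hU hn).toRingHom := by
      rw [Ideal.map_span, ← Set.range_comp]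
      exact congrArg (fun g : Fin e → _ => Ideal.span (Set.range g))
        (funext fun l => (polyV_X hA hU hn (Fin.natAdd r' l)).symm)
    ext x
    rw [RingHom.mem_ker, h2]
    refine (h1 x).trans ((kill_eq_zero_iff _).trans ⟨fun h => ?_, fun h => ?_⟩)
    · have := Ideal.mem_map_of_mem (polyV hA hU hn).toRingHom h
      simpa using this
    · obtain ⟨y, hy, e1⟩ := (Ideal.mem_map_iff_of_surjective _ (polyV hA hU hn).surjective).1 h
      rw [← e1]
      simpa using hy
  exact hker

theorem zJ_eq (hab : a ≫ b = 0) (hna : ∀ i, n (Fin.castAdd e i) = a.app U (n' i))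
    (hnb : IsFrame E U fun l => b.app U (n (Fin.natAdd r' l)))
    (σ : ((Scheme.Modules.pullback A.π).obj E).presheaf.obj (op ⊤))
    (hσ : ((Scheme.Modules.pullback A.π).obj E).presheaf.map (homOfLE (le_top : A.π ⁻¹ᵁ U ≤ ⊤)).op σ = loc j b hU hn)
    (z : A.spec) (hzU : z ∈ A.π ⁻¹ᵁ U) :
    zJ _ σ z = Ideal.span (Set.range fun l : Fin e =>
      A.spec.presheaf.germ _ z hzU (tV j U hU (df hU hn (Fin.natAdd r' l)))) := by
  let M := (Scheme.Modules.pullback A.π).obj E
  let t : Fin e → Γ(A.spec, A.π ⁻¹ᵁ U) := fun l => tV j U hU (df hU hn (Fin.natAdd r' l))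
  -- the ideal of the section
  have hloc : loc j b hU hn =
      comb M (fun l => unitSec A.π E U (b.app U (n (Fin.natAdd r' l)))) le_rfl t := by
    rw [loc, Fin.sum_univ_add]
    have h0 : ∀ k : Fin r', tV j U hU (df hU hn (Fin.castAdd e k)) •
        unitSec A.π E U (b.app U (n (Fin.castAdd e k))) = 0 := fun k => by
      have e1 : b.app U (a.app U (n' k)) = 0 := congr(($hab).app U (n' k))
      rw [hna, e1, show unitSec A.π E U 0 = 0 from map_zero _, smul_zero]
    simp only [h0, Finset.sum_const_zero, zero_add, comb, t]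
    refine Finset.sum_congr rfl fun l _ => ?_
    congr 1
    refine Eq.symm ?_
    rw [show (homOfLE (le_refl (A.π ⁻¹ᵁ U))).op = 𝟙 _ from Subsingleton.elim _ _, CategoryTheory.Functor.map_id]
    rfl
  have hzJ : zJ M σ z = Ideal.span (Set.range fun l => A.spec.presheaf.germ _ z hzU (t l)) := by
    have hb := IsFrame.pullback A.π hnb
    have e1 : germM M ⊤ z trivial σ = germM M (A.π ⁻¹ᵁ U) z hzU
        (comb M (fun l => unitSec A.π E U (b.app U (n (Fin.natAdd r' l)))) le_rfl t) := by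
      rw [← hloc, ← hσ]
      exact (M.presheaf.germ_res_apply (homOfLE le_top) z hzU σ).symm
    rw [zJ, e1, coIdeal_eq_span (frameBasis hb z hzU)]
    exact congrArg (fun g : Fin e → _ => Ideal.span (Set.range g))
      (funext fun l => frameBasis_repr hb z hzU le_rfl hzU t l)
  exact hzJ

theorem regSeq_sect (hA : RelSpec.IsSymAlg (dualM N) A j) (hn : IsFrame N U n) [IsLocallyNoetherian A.spec]
    (z : A.spec) (hzU : z ∈ A.π ⁻¹ᵁ U) (J : Ideal (A.spec.presheaf.stalk z)) (hne : J ≠ ⊤)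
    (hzJ : J = Ideal.span (Set.range fun l : Fin e =>
      A.spec.presheaf.germ _ z hzU (tV j U hU (df hU hn (Fin.natAdd r' l))))) :
    RegSeq e (fibI A.π z) J := by
  let φz : MvPolynomial (Fin (r' + e)) Γ(X, U) →+* A.spec.presheaf.stalk z :=
    (A.spec.presheaf.germ _ z hzU).hom.comp (polyV hA hU hn).toRingHom
  letI := φz.toAlgebra
  haveI : Module.Flat (MvPolynomial (Fin (r' + e)) Γ(X, U)) (A.spec.presheaf.stalk z) := by
    refine RingHom.Flat.comp (RingHom.Flat.of_bijective (polyV hA hU hn).bijective) ?_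
    letI := A.spec.presheaf.algebra_section_stalk (⟨z, hzU⟩ : (A.π ⁻¹ᵁ U : A.spec.Opens))
    haveI : IsLocalization.AtPrime (A.spec.presheaf.stalk z) ((hU.preimage A.π).primeIdealOf ⟨z, hzU⟩).asIdeal :=
      (hU.preimage A.π).isLocalization_stalk ⟨z, hzU⟩
    exact (RingHom.flat_algebraMap_iff (R := Γ(A.spec, A.π ⁻¹ᵁ U)) (S := A.spec.presheaf.stalk z)).2
      (IsLocalization.flat _ ((hU.preimage A.π).primeIdealOf ⟨z, hzU⟩).asIdeal.primeCompl)
  let p := (hU.primeIdealOf ⟨A.π z, hzU⟩).asIdeal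
  have hI : (p.map (MvPolynomial.C : Γ(X, U) →+* MvPolynomial (Fin (r' + e)) Γ(X, U))).map (algebraMap _ _) =
      fibI A.π z := by
    letI := X.presheaf.algebra_section_stalk (⟨A.π z, hzU⟩ : U)
    haveI : IsLocalization.AtPrime (X.presheaf.stalk (A.π z)) p := hU.isLocalization_stalk ⟨A.π z, hzU⟩
    rw [fibI, ← IsLocalization.AtPrime.map_eq_maximalIdeal p (X.presheaf.stalk (A.π z)), Ideal.map_map, Ideal.map_map]
    congr 1
    ext r
    show A.spec.presheaf.germ _ z hzU (polyV hA hU hn (MvPolynomial.C r)) =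
      A.π.stalkMap z (X.presheaf.germ U (A.π z) hzU r)
    rw [polyV_C]
    exact (Scheme.Hom.germ_stalkMap_apply A.π U z hzU r).symm
  have hJ : (Ideal.span (Set.range fun l : Fin e =>
      (MvPolynomial.X (Fin.natAdd r' l) : MvPolynomial (Fin (r' + e)) Γ(X, U)))).map (algebraMap _ _) =
      J := by
    rw [hzJ, Ideal.map_span, ← Set.range_comp]
    exact congrArg (fun g : Fin e → _ => Ideal.span (Set.range g))
      (funext fun l => congrArg (A.spec.presheaf.germ _ z hzU) (polyV_X hA hU hn (Fin.natAdd r' l)))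
  rw [← hI, ← hJ]
  exact regSeq_flat (regSeq_vars p (hU.primeIdealOf ⟨A.π z, hzU⟩).isPrime.ne_top _ (Fin.natAdd_injective e r'))
    (hJ ▸ hne) (hI ▸ ne_top_of_le_ne_top (IsLocalRing.maximalIdeal.isMaximal _).ne_top (fibI_le A.π z))

theorem sect_local {r' e : ℕ} (a : N' ⟶ N) (b : N ⟶ E) (hab : a ≫ b = 0)
    (hex : (ShortComplex.mk a b hab).ShortExact) (hN' : FlatMod.IsFinLocFreeOfRank r' N')
    (hE : FlatMod.IsFinLocFreeOfRank e E) (hA : RelSpec.IsSymAlg (dualM N) A j)
    (hA' : RelSpec.IsSymAlg (dualM N') A' j') (hφ : j ≫ RelSpec.QCAlg.Hom.toModuleMap φ = mate a ≫ j')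
    [IsClosedImmersion (RelSpec.QCAlg.specMap φ)] [IsLocallyNoetherian A.spec]
    (σ : ((Scheme.Modules.pullback A.π).obj E).presheaf.obj (op ⊤))
    (hσ : ∀ (U : X.Opens) (hU : IsAffineOpen U) (n : Fin (r' + e) → Γ(N, U)) (hn : IsFrame N U n),
      ((Scheme.Modules.pullback A.π).obj E).presheaf.map (homOfLE (le_top : A.π ⁻¹ᵁ U ≤ ⊤)).op σ = loc j b hU hn) :
    (∀ d, zJ _ σ (RelSpec.QCAlg.specMap φ d) = RingHom.ker ((RelSpec.QCAlg.specMap φ).stalkMap d).hom) ∧
    (∀ z, z ∉ Set.range (RelSpec.QCAlg.specMap φ) → zJ _ σ z = ⊤) ∧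
    (∀ z, zJ _ σ z ≠ ⊤ → RegSeq e (fibI A.π z) (zJ _ σ z)) := by
  classical
  let i := RelSpec.QCAlg.specMap φ
  let M := (Scheme.Modules.pullback A.π).obj E
  suffices key : ∀ z : A.spec, ∃ (W : A.spec.Opens) (_ : IsAffineOpen W) (hz : z ∈ W),
      zJ M σ z = (RingHom.ker (i.app W).hom).map (A.spec.presheaf.germ W z hz).hom ∧
      (zJ M σ z ≠ ⊤ → RegSeq e (fibI A.π z) (zJ M σ z)) by
    refine ⟨fun d => ?_, fun z hz => ?_, fun z => (key z).choose_spec.choose_spec.choose_spec.2⟩
    · obtain ⟨W, hW, hd, h, -⟩ := key (i d)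
      rw [h, ker_stalkMap_of_affine i hW d hd]
    · obtain ⟨W, hW, hd, h, -⟩ := key z
      by_contra hne
      exact hz (mem_range_of_affine i hW z hd (h ▸ hne))
  intro z
  obtain ⟨U, hU, hzU, n', hn', n, hn, hna, hnb⟩ := exists_adapted (N := N) b hN' hE a hab hex (A.π z)
  have h1 := zJ_eq (j := j) a b hU hn hab hna hnb σ (hσ U hU n hn) z hzU
  refine ⟨A.π ⁻¹ᵁ U, hU.preimage A.π, hzU, ?_, fun hne => regSeq_sect hU hA hn z hzU _ hne h1⟩
  rw [h1, ker_app φ a hU hA hA' hφ hn' hn hna, Ideal.map_span, ← Set.range_comp]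
  rfl

end Groth.Agent.CycLib.DualBdl
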