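import Groth.Agent.SHomIso.Basic
import Groth.Agent.Desc44.ProjBundle.Quot
import Groth.Agent.FinCov71.Rank
import Groth.Agent.CycLib.ChowOp.Ops

/-!
Dual frames for the sheaf Hom into the structure sheaf, given by adjunction.
-/

set_option autoImplicit false
set_option linter.style.haveILetI false
set_option maxHeartbeats 800000

universe u

open CategoryTheory CategoryTheory.Limits AlgebraicGeometry TopologicalSpace Opposite MonoidalCategory

noncomputable section

namespace Groth.Agent.CycLib.DualBdl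

open Groth.Agent.PullStalk.Sky Groth.Agent.PullStalk.Exact Groth.Agent.Omega.Stalks Groth.Agent.QCoh
  Groth.Agent.KFlat.StalkTensor Groth.Agent.ExtFilt.Stalkwise

variable {X : Scheme.{u}} {F F' : X.Modules} [DCoh.HasSheafHom F] [DCoh.HasSheafHom F']

/-- The dual module given by adjunction. -/
abbrev dualM (F : X.Modules) [DCoh.HasSheafHom F] : X.Modules :=
  (DCoh.sheafHom F).obj (Coh.structureModule X)

/-- Evaluation of a dual section on a section. -/
def pr (U : X.Opens) (m : Γ(F, U)) (h : Γ(dualM F, U)) : Γ(Coh.structureModule X, U) :=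
  ((DCoh.sheafHomAdj F).counit.app (Coh.structureModule X)).app U (tmulSec U m h)

theorem pr_add_left (U : X.Opens) (m m' : Γ(F, U)) (h : Γ(dualM F, U)) : pr U (m + m') h = pr U m h + pr U m' h := by
  rw [pr, tmulSec_add_left]; exact map_add _ _ _

theorem pr_add_right (U : X.Opens) (m : Γ(F, U)) (h h' : Γ(dualM F, U)) : pr U m (h + h') = pr U m h + pr U m h' := by
  rw [pr, tmulSec_add_right]; exact map_add _ _ _

theorem pr_smul_left (U : X.Opens) (r : Γ(X, U)) (m : Γ(F, U)) (h : Γ(dualM F, U)) :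
    pr U (r • m) h = r • pr U m h := by
  rw [pr, tmulSec_smul_left]; exact Scheme.Modules.Hom.app_smul _ _ _

theorem pr_smul_right (U : X.Opens) (r : Γ(X, U)) (m : Γ(F, U)) (h : Γ(dualM F, U)) :
    pr U m (r • h) = r • pr U m h := by
  rw [pr, tmulSec_smul_right]; exact Scheme.Modules.Hom.app_smul _ _ _

theorem pr_zero_left (U : X.Opens) (h : Γ(dualM F, U)) : pr U (0 : Γ(F, U)) h = 0 := by
  have := pr_add_left U (0 : Γ(F, U)) 0 h
  rwa [add_zero, right_eq_add] at this

theorem pr_zero_right (U : X.Opens) (m : Γ(F, U)) : pr U m (0 : Γ(dualM F, U)) = 0 := by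
  have := pr_add_right U m (0 : Γ(dualM F, U)) 0
  rwa [add_zero, right_eq_add] at this

theorem pr_sum_left {ι : Type*} (s : Finset ι) (U : X.Opens) (m : ι → Γ(F, U)) (h : Γ(dualM F, U)) :
    pr U (∑ i ∈ s, m i) h = ∑ i ∈ s, pr U (m i) h := by
  classical
  induction s using Finset.induction with
  | empty => simp [pr_zero_left]
  | insert a s ha ih => rw [Finset.sum_insert ha, Finset.sum_insert ha, pr_add_left, ih]

theorem pr_sum_right {ι : Type*} (s : Finset ι) (U : X.Opens) (m : Γ(F, U)) (h : ι → Γ(dualM F, U)) :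
    pr U m (∑ i ∈ s, h i) = ∑ i ∈ s, pr U m (h i) := by
  classical
  induction s using Finset.induction with
  | empty => simp [pr_zero_right]
  | insert a s ha ih => rw [Finset.sum_insert ha, Finset.sum_insert ha, pr_add_right, ih]

theorem pr_res {U V : X.Opens} (i : V ≤ U) (m : Γ(F, U)) (h : Γ(dualM F, U)) :
    (Coh.structureModule X).presheaf.map (homOfLE i).op (pr U m h) =
      pr V (F.presheaf.map (homOfLE i).op m) ((dualM F).presheaf.map (homOfLE i).op h) := by
  refine (NatTrans.naturality_apply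
    ((DCoh.sheafHomAdj F).counit.app (Coh.structureModule X)).mapPresheaf (homOfLE i).op (tmulSec U m h)).symm.trans ?_
  exact congrArg _ (tmulSec_res (homOfLE i) m h)

/-- Tensoring a morphism on the left on pure tensors. -/
theorem tensorBi_mapLeft_tmulSec {A B : X.Modules} (φ : A ⟶ B) (N : X.Modules) (U : X.Opens) (m : Γ(A, U))
    (n : Γ(N, U)) : ((DCoh.tensorBi (X := X)).map φ |>.app N).app U (tmulSec U m n) = tmulSec U (φ.app U m) n :=
  (congr(($((KFlat.preAdj X.sheaf).unit.naturality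
    ((ModSite.toPre X.sheaf).map φ ▷ (ModSite.toPre X.sheaf).obj N))).app (op U)
    ((show ((ModSite.toPre X.sheaf).obj A).obj (op U) from m) ⊗ₜ[X.sheaf.obj.obj (op U)]
      (show ((ModSite.toPre X.sheaf).obj N).obj (op U) from n)))).symm

/-- The transpose of a morphism. -/
abbrev mate (a : F' ⟶ F) : dualM F ⟶ dualM F' :=
  ((CategoryTheory.conjugateEquiv (DCoh.sheafHomAdj F) (DCoh.sheafHomAdj F'))
    ((DCoh.tensorBi (X := X)).map a)).app (Coh.structureModule X)

theorem pr_mate (a : F' ⟶ F) (U : X.Opens) (m : Γ(F', U)) (h : Γ(dualM F, U)) :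
    pr U m ((mate a).app U h) = pr U (a.app U m) h := by
  have e := conjugateEquiv_counit (DCoh.sheafHomAdj F) (DCoh.sheafHomAdj F') ((DCoh.tensorBi (X := X)).map a)
    (Coh.structureModule X)
  have e1 := congr(($e).app U (tmulSec U m h))
  refine Eq.trans ?_ (e1.trans ?_)
  · exact congrArg (((DCoh.sheafHomAdj F').counit.app (Coh.structureModule X)).app U)
      (ExtHom.tensorBi_map_tmulSec F' (mate a) U m h).symm
  · exact congrArg (((DCoh.sheafHomAdj F).counit.app (Coh.structureModule X)).app U)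
      (tensorBi_mapLeft_tmulSec a (dualM F) U m h)

/-- The adjoint sheaf Hom into `O` is the sheaf of local homomorphisms, compatibly with evaluation. -/
theorem exists_pairIso (F : X.Modules) [DCoh.HasSheafHom F] :
    ∃ e : dualM F ≅ RefHull.homSh F (Coh.structureModule X),
      ∀ (U : X.Opens) (h : Γ(dualM F, U)) (y : X) (hy : y ∈ U) (m : Γ(F, U)),
        (e.hom.app U h).1 ⟨y, hy⟩ (germM F U y hy m) = germM (Coh.structureModule X) U y hy (pr U m h) := by
  let G := Coh.structureModule X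
  obtain ⟨ev, hev⟩ := exists_hom (SHomIso.Basic.loc_evFun F G)
  have hev' : ∀ (U : X.Opens) (y : X) (hy : y ∈ U) (m : Γ(F, U)) (g : Γ(RefHull.homSh F G, U)),
      germM G U y hy (ev.app U (tmulSec U m g)) = g.1 ⟨y, hy⟩ (germM F U y hy m) := fun U y hy m g =>
    (stalkLin_germ ev U y hy _).symm.trans ((hev y _).trans (SHomIso.Basic.evFun_tgerm F G y hy m g))
  let adj := DCoh.sheafHomAdj F
  let H : X.Modules := dualM F
  let ε : tensM F H ⟶ G := adj.counit.app G
  let B : ∀ U : X.Opens, Γ(H, U) →ₗ[Γ(X, U)] Γ(F, U) →ₗ[Γ(X, U)] Γ(G, U) := fun U =>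
    LinearMap.mk₂ Γ(X, U) (fun h f => pr U f h) (fun h h' f => pr_add_right U f h h')
      (fun r h f => pr_smul_right U r f h) (fun h f f' => pr_add_left U f f' h) (fun r h f => pr_smul_left U r f h)
  have hB : ∀ (U V : X.Opens) (h : V ≤ U) (m : Γ(H, U)) (m' : Γ(F, U)),
      res G h (B U m m') = B V (res H h m) (res F h m') := fun U V h m m' => pr_res h m' m
  let α : RefHull.homSh F G ⟶ H := adj.homEquiv _ _ ev
  let β : H ⟶ RefHull.homSh F G := VBLib.Curry.hom B hB
  have hα : ((DCoh.tensorBi (X := X)).obj F).map α ≫ ε = ev :=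
    (adj.homEquiv_counit (g := α)).symm.trans ((adj.homEquiv _ _).symm_apply_apply ev)
  have hβ : ((DCoh.tensorBi (X := X)).obj F).map β ≫ ev = ε := by
    refine ExtHom.tensM_hom_ext fun U f h => sec_ext fun y hy => ?_
    change germM G U y hy (ev.app U ((((DCoh.tensorBi (X := X)).obj F).map β).app U (tmulSec U f h))) = _
    rw [ExtHom.tensorBi_map_tmulSec, hev' U y hy f]
    refine (VBLib.Curry.hom_germ B hB h ⟨y, hy⟩ U le_rfl hy f).trans ?_
    exact congrArg (fun t => germM G U y hy (B U t f)) (res_self H le_rfl h)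
  refine ⟨⟨β, α, ?_, ?_⟩, fun U h y hy m => ?_⟩
  · refine (adj.homEquiv_naturality_left β ev).symm.trans ?_
    rw [hβ, adj.homEquiv_unit]
    exact adj.right_triangle_components G
  · ext U g
    refine Subtype.ext (funext fun y => LinearMap.ext fun v => ?_)
    obtain ⟨W, hW, b, rfl⟩ := exists_germM_eq F y.1 v
    rw [← germM_res' F (inf_le_left : W ⊓ U ≤ W) y.1 (show y.1 ∈ W ⊓ U from ⟨hW, y.2⟩)]
    refine (VBLib.Curry.hom_germ B hB (α.app U g) y (W ⊓ U) inf_le_right ⟨hW, y.2⟩ _).trans ?_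
    have hyWU : y.1 ∈ W ⊓ U := ⟨hW, y.2⟩
    let b' : Γ(F, W ⊓ U) := res F inf_le_left b
    let g' : Γ(RefHull.homSh F G, W ⊓ U) := res (RefHull.homSh F G) inf_le_right g
    change germM G (W ⊓ U) y.1 _ (ε.app (W ⊓ U) (tmulSec (W ⊓ U) b' (res H inf_le_right (α.app U g)))) =
      g.1 y (germM F (W ⊓ U) y.1 _ b')
    have hnat : res H (inf_le_right : W ⊓ U ≤ U) (α.app U g) = α.app (W ⊓ U) g' :=
      (NatTrans.naturality_apply α.mapPresheaf (homOfLE (inf_le_right : W ⊓ U ≤ U)).op g).symm
    rw [hnat, ← ExtHom.tensorBi_map_tmulSec]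
    refine (congrArg (fun χ : tensM F (RefHull.homSh F G) ⟶ G => germM G (W ⊓ U) y.1 hyWU
      (χ.app (W ⊓ U) (tmulSec (W ⊓ U) b' g'))) hα).trans ?_
    exact hev' _ y.1 hyWU b' g'
  · refine (VBLib.Curry.hom_germ B hB h ⟨y, hy⟩ U le_rfl hy m).trans ?_
    exact congrArg (fun t => germM G U y hy (B U t m)) (res_self H le_rfl h)

/-- The sections of a frame as a basis. -/
def secBasis {U : X.Opens} {m : ℕ} {n : Fin m → Γ(F, U)} (hn : LFFrame.IsFrame F U n) :
    Module.Basis (Fin m) Γ(X, U) Γ(F, U) :=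
  Module.Basis.ofEquivFun (LinearEquiv.ofBijective
    ({ toFun := LFFrame.comb F n le_rfl
       map_add' := fun a b => by simp [LFFrame.comb, add_smul, Finset.sum_add_distrib]
       map_smul' := fun r a => by simp [LFFrame.comb, mul_smul, Finset.smul_sum] } :
      (Fin m → Γ(X, U)) →ₗ[Γ(X, U)] Γ(F, U)) (hn U le_rfl)).symm

theorem secBasis_apply {U : X.Opens} {m : ℕ} {n : Fin m → Γ(F, U)} (hn : LFFrame.IsFrame F U n) (i : Fin m) :
    secBasis hn i = n i := by
  classical
  rw [secBasis, Module.Basis.coe_ofEquivFun, LinearEquiv.symm_symm]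
  refine (LinearEquiv.ofBijective_apply _ _).trans ?_
  show LFFrame.comb F n le_rfl (Pi.single i 1) = n i
  simp [LFFrame.comb, Pi.single_apply, ite_smul]

/-- Dual sections are determined by their values on a frame. -/
theorem pr_ext [F.IsQuasicoherent] {U : X.Opens} (hU : IsAffineOpen U) {m : ℕ} {n : Fin m → Γ(F, U)}
    (hn : LFFrame.IsFrame F U n) {h h' : Γ(dualM F, U)} (e : ∀ i, pr U (n i) h = pr U (n i) h') : h = h' := by
  obtain ⟨ψ, hψ⟩ := exists_pairIso F
  have hs : Submodule.span Γ(X, U) (Set.range n) = ⊤ := by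
    rw [← (secBasis hn).span_eq]
    exact congrArg _ (congrArg Set.range (funext fun i => (secBasis_apply hn i).symm))
  have h1 : ψ.hom.app U h = ψ.hom.app U h' := HomShEval.QCoh.ext_gen F _ hU hs le_rfl _ _ fun y hy i => by
    rw [hψ, hψ, e]
  have e2 := congr(($(ψ.hom_inv_id)).app U h)
  have e2' := congr(($(ψ.hom_inv_id)).app U h')
  exact e2.symm.trans ((congrArg (ψ.inv.app U) h1).trans e2')

/-- Dual sections with prescribed values on a frame. -/
theorem exists_pr [F.IsQuasicoherent] {U : X.Opens} (hU : IsAffineOpen U) {m : ℕ} {n : Fin m → Γ(F, U)}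
    (hn : LFFrame.IsFrame F U n) (c : Fin m → Γ(X, U)) :
    ∃ h : Γ(dualM F, U), ∀ i, pr U (n i) h = c i := by
  obtain ⟨ψ, hψ⟩ := exists_pairIso F
  haveI : (Coh.structureModule X).IsQuasicoherent :=
    PerfTri.Betti.isQuasicoherent_of_isFinLocFree
      (ProjForm.isFinLocFree_of_isInvertible (LFFrame.isInvertible_structureModule X))
  let f : Γ(F, U) →ₗ[Γ(X, U)] Γ(Coh.structureModule X, U) :=
    (secBasis hn).constr Γ(X, U) fun i => (show Γ(Coh.structureModule X, U) from c i)
  obtain ⟨g, hg⟩ := HomShEval.QCoh.exists_ofLinear F (Coh.structureModule X) hU f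
  refine ⟨ψ.inv.app U g, fun i => ?_⟩
  refine HomShEval.QCoh.ext_germ (Coh.structureModule X) _ _ fun y hy => ?_
  rw [← hψ U _ y hy (n i)]
  have e : ψ.hom.app U (ψ.inv.app U g) = g := congr(($(ψ.inv_hom_id)).app U g)
  rw [e, hg]
  refine congrArg _ ?_
  rw [← secBasis_apply hn i]
  exact (secBasis hn).constr_basis _ _ i

end Groth.Agent.CycLib.DualBdl
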