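import Groth.Agent.CycLib.DualBdl.Pair
import Groth.Agent.Omega.VectorBundle
import Groth.Agent.QCoh.Exact

/-!
The tautological section on the bundle of a dual, pushed to a quotient.
-/

set_option autoImplicit false
set_option linter.style.haveILetI false
set_option maxHeartbeats 1000000

universe u

open CategoryTheory CategoryTheory.Limits AlgebraicGeometry TopologicalSpace Opposite

noncomputable section

namespace Groth.Agent.CycLib.DualBdl

open Groth.Agent.PullStalk.Sky Groth.Agent.LFFrame

variable {X : Scheme.{u}} {N E : X.Modules} [DCoh.HasSheafHom N] [N.IsQuasicoherent]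
  {A : RelSpec.QCAlg X} (j : dualM N ⟶ A.toModule) (b : N ⟶ E)

omit [N.IsQuasicoherent] in
/-- The linear function on the bundle given by a dual section. -/
def tV (U : X.Opens) (hU : IsAffineOpen U) (h : Γ(dualM N, U)) : Γ(A.spec, A.π ⁻¹ᵁ U) :=
  haveI := Omega.VectorBundle.isIso_gammaAff (A := A) U hU
  (inv (A.gammaAff U hU)).hom (j.app U h)

omit [N.IsQuasicoherent] in
theorem gamma_tV (U : X.Opens) (hU : IsAffineOpen U) (h : Γ(dualM N, U)) :
    A.gammaAff U hU (tV j U hU h) = j.app U h := by
  haveI := Omega.VectorBundle.isIso_gammaAff (A := A) U hU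
  exact CategoryTheory.congr_fun (IsIso.inv_hom_id (A.gammaAff U hU)) _

omit [N.IsQuasicoherent] in
theorem gamma_injective (U : X.Opens) (hU : IsAffineOpen U) : Function.Injective (A.gammaAff U hU) := by
  haveI := Omega.VectorBundle.isIso_gammaAff (A := A) U hU
  exact (ConcreteCategory.bijective_of_isIso (A.gammaAff U hU)).1

omit [N.IsQuasicoherent] in
theorem tV_res {U W : X.Opens} (hU : IsAffineOpen U) (hW : IsAffineOpen W) (i : W ≤ U) (h : Γ(dualM N, U)) :
    A.spec.presheaf.map (homOfLE (A.π.preimage_mono i)).op (tV j U hU h) =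
      tV j W hW ((dualM N).presheaf.map (homOfLE i).op h) := by
  refine gamma_injective (A := A) W hW ?_
  rw [gamma_tV, ← RelSpec.QCAlg.gammaMap_app A W hW]
  refine (CategoryTheory.congr_fun (A.gammaMap.naturality (homOfLE i).op) (tV j U hU h)).trans ?_
  refine (congrArg (A.presheaf.map (homOfLE i).op) ((congrArg (fun φ => φ (tV j U hU h))
    (RelSpec.QCAlg.gammaMap_app A U hU)).trans (gamma_tV j U hU h))).trans ?_
  exact (NatTrans.naturality_apply j.mapPresheaf (homOfLE i).op h).symm

omit [N.IsQuasicoherent] in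
theorem tV_add (U : X.Opens) (hU : IsAffineOpen U) (h h' : Γ(dualM N, U)) :
    tV j U hU (h + h') = tV j U hU h + tV j U hU h' := by
  refine gamma_injective (A := A) U hU ?_
  rw [map_add, gamma_tV, gamma_tV, gamma_tV]
  exact map_add _ h h'

omit [N.IsQuasicoherent] in
theorem tV_smul (U : X.Opens) (hU : IsAffineOpen U) (r : Γ(X, U)) (h : Γ(dualM N, U)) :
    tV j U hU (r • h) = A.π.app U r * tV j U hU h := by
  refine gamma_injective (A := A) U hU ?_
  rw [map_mul, gamma_tV, gamma_tV]
  refine (j.app_smul r h).trans ?_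
  exact congrArg (· * (show A.presheaf.obj (op U) from j.app U h))
    (CategoryTheory.congr_fun (RelSpec.QCAlg.π_app_gammaAff A U hU) r).symm

omit [N.IsQuasicoherent] in
theorem tV_sum {ι : Type*} (s : Finset ι) (U : X.Opens) (hU : IsAffineOpen U) (h : ι → Γ(dualM N, U)) :
    tV j U hU (∑ i ∈ s, h i) = ∑ i ∈ s, tV j U hU (h i) := by
  classical
  induction s using Finset.induction with
  | empty =>
    simp only [Finset.sum_empty]
    refine gamma_injective (A := A) U hU ?_
    rw [gamma_tV]
    exact (map_zero (j.app U).hom).trans (map_zero (A.gammaAff U hU).hom).symm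
  | insert a s ha ih => rw [Finset.sum_insert ha, Finset.sum_insert ha, tV_add, ih]

variable {U : X.Opens} (hU : IsAffineOpen U) {m : ℕ} {n : Fin m → Γ(N, U)} (hn : IsFrame N U n)

/-- The dual frame. -/
def df (i : Fin m) : Γ(dualM N, U) := (exists_pr hU hn (Pi.single i 1)).choose

theorem pr_df (i i' : Fin m) : pr U (n i') (df hU hn i) = (Pi.single i 1 : Fin m → Γ(X, U)) i' :=
  (exists_pr hU hn (Pi.single i 1)).choose_spec i'

theorem pr_comb_df (c : Fin m → Γ(X, U)) (i' : Fin m) : pr U (n i') (∑ i, c i • df hU hn i) = c i' := by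
  classical
  rw [pr_sum_right]
  refine (Finset.sum_congr rfl fun i _ => (pr_smul_right U (c i) _ _).trans
    (congrArg (c i • ·) (pr_df hU hn i i'))).trans ?_
  show (∑ i, c i * (Pi.single i 1 : Fin m → Γ(X, U)) i' : Γ(X, U)) = c i'
  simp [Pi.single_apply]

theorem eq_comb_df (h : Γ(dualM N, U)) : h = ∑ i, (show Γ(X, U) from pr U (n i) h) • df hU hn i :=
  pr_ext hU hn fun i' => (pr_comb_df hU hn (fun i => pr U (n i) h) i').symm

/-- The dual basis. -/
def dualBasis : Module.Basis (Fin m) Γ(X, U) Γ(dualM N, U) :=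
  Module.Basis.ofEquivFun
    { toFun := fun h i => (show Γ(X, U) from pr U (n i) h)
      map_add' := fun h h' => funext fun i => pr_add_right U _ h h'
      map_smul' := fun r h => funext fun i => pr_smul_right U r _ h
      invFun := fun c => ∑ i, c i • df hU hn i
      left_inv := fun h => (eq_comb_df hU hn h).symm
      right_inv := fun c => funext fun i => pr_comb_df hU hn c i }

theorem dualBasis_apply (i : Fin m) : dualBasis hU hn i = df hU hn i := by
  classical
  rw [dualBasis, Module.Basis.coe_ofEquivFun]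
  show ∑ k, (Pi.single i 1 : Fin m → Γ(X, U)) k • df hU hn k = _
  simp [Pi.single_apply, ite_smul]

/-- The local expression of the section. -/
def loc : Γ((Scheme.Modules.pullback A.π).obj E, A.π ⁻¹ᵁ U) :=
  ∑ i, tV j U hU (df hU hn i) • unitSec A.π E U (b.app U (n i))

/-- The local expression does not depend on the frame. -/
theorem loc_indep {n' : Fin m → Γ(N, U)} (hn' : IsFrame N U n') : loc j b hU hn = loc j b hU hn' := by
  classical
  obtain ⟨c, hc⟩ : ∃ c : Fin m → Fin m → Γ(X, U), ∀ i, n i = ∑ k, c i k • n' k := by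
    choose c hc using fun i => (hn' U le_rfl).2 (n i)
    refine ⟨c, fun i => (hc i).symm.trans ?_⟩
    simp [comb]
  have hdf : ∀ k, df hU hn' k = ∑ i, c i k • df hU hn i := fun k => pr_ext hU hn fun i => by
    rw [pr_comb_df, hc i, pr_sum_left]
    refine (Finset.sum_congr rfl fun l _ => (pr_smul_left U (c i l) _ _).trans
      (congrArg (c i l • ·) (pr_df hU hn' k l))).trans ?_
    show (∑ l, c i l * (Pi.single k 1 : Fin m → Γ(X, U)) l : Γ(X, U)) = c i k
    simp [Pi.single_apply]
  have hsum : ∀ {ι : Type} (s : Finset ι) (f : ι → Γ(E, U)),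
      unitSec A.π E U (∑ i ∈ s, f i) = ∑ i ∈ s, unitSec A.π E U (f i) := fun s f => map_sum _ f s
  simp only [loc, hdf, tV_sum, tV_smul, hc, Finset.sum_smul, map_sum, hsum, Scheme.Modules.Hom.app_smul,
    unitSec_smul, Finset.smul_sum, smul_smul]
  rw [Finset.sum_comm]
  exact Finset.sum_congr rfl fun i _ => Finset.sum_congr rfl fun k _ => by rw [mul_comm]

theorem loc_res {W : X.Opens} (hW : IsAffineOpen W) (i : W ≤ U) :
    ((Scheme.Modules.pullback A.π).obj E).presheaf.map (homOfLE (A.π.preimage_mono i)).op (loc j b hU hn) =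
      loc j b hW (Desc44.ProjBundle.isFrame_restrict hn i) := by
  classical
  rw [loc, loc, map_sum]
  refine Finset.sum_congr rfl fun k _ => ?_
  rw [Scheme.Modules.map_smul, tV_res j hU hW i, ← unitSec_res A.π E i]
  congr 1
  · congr 1
    refine pr_ext hW (Desc44.ProjBundle.isFrame_restrict hn i) fun l => ?_
    refine (pr_res i (n l) (df hU hn k)).symm.trans (Eq.trans ?_ (pr_df hW (Desc44.ProjBundle.isFrame_restrict hn i) k l).symm)
    rw [pr_df]
    show X.presheaf.map (homOfLE i).op ((Pi.single k 1 : Fin m → Γ(X, U)) l) = _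
    simp [Pi.single_apply, apply_ite (X.presheaf.map (homOfLE i).op)]
  · exact congrArg _ (NatTrans.naturality_apply b.mapPresheaf (homOfLE i).op (n k)).symm

/-- The section exists globally. -/
theorem exists_sect {m : ℕ} (hN : FlatMod.IsFinLocFreeOfRank m N) :
    ∃ σ : ((Scheme.Modules.pullback A.π).obj E).presheaf.obj (op ⊤),
      ∀ (U : X.Opens) (hU : IsAffineOpen U) (n : Fin m → Γ(N, U)) (hn : IsFrame N U n),
        ((Scheme.Modules.pullback A.π).obj E).presheaf.map (homOfLE (le_top : A.π ⁻¹ᵁ U ≤ ⊤)).op σ = loc j b hU hn := by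
  classical
  let M := (Scheme.Modules.pullback A.π).obj E
  let ι := Σ' (U : X.Opens) (_ : IsAffineOpen U) (n : Fin m → Γ(N, U)), IsFrame N U n
  let Us : ι → A.spec.Opens := fun i => A.π ⁻¹ᵁ i.1
  have hcov : (⊤ : A.spec.Opens) ≤ iSup Us := fun z _ => by
    obtain ⟨W, n, hzW, hn⟩ := FinCov71.exists_isFrame_rank hN (A.π z)
    obtain ⟨U, hU, hzU, hUW⟩ := exists_isAffineOpen_mem_and_subset hzW
    exact Opens.mem_iSup.2 ⟨⟨U, hU, _, Desc44.ProjBundle.isFrame_restrict hn hUW⟩, hzU⟩
  have hcompat : TopCat.Presheaf.IsCompatible M.presheaf Us fun i => loc j b i.2.1 i.2.2.2 := by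
    intro i i'
    refine TopCat.Presheaf.section_ext ⟨_, M.isSheaf⟩ _ _ _ fun z hz => ?_
    obtain ⟨W, hW, hzW, hWle⟩ := exists_isAffineOpen_mem_and_subset (x := A.π z) (U := i.1 ⊓ i'.1) ⟨hz.1, hz.2⟩
    have h1 : W ≤ i.1 := hWle.trans inf_le_left
    have h2 : W ≤ i'.1 := hWle.trans inf_le_right
    refine (M.presheaf.germ_res_apply (Opens.infLELeft _ _) z hz _).trans ?_
    refine Eq.trans ?_ (M.presheaf.germ_res_apply (Opens.infLERight _ _) z hz _).symm
    refine (M.presheaf.germ_res_apply (homOfLE (A.π.preimage_mono h1)) z hzW _).symm.trans ?_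
    refine Eq.trans ?_ (M.presheaf.germ_res_apply (homOfLE (A.π.preimage_mono h2)) z hzW _)
    exact congrArg _ ((loc_res j b i.2.1 i.2.2.2 hW h1).trans
      ((loc_indep j b hW _ _).trans (loc_res j b i'.2.1 i'.2.2.2 hW h2).symm))
  obtain ⟨σ, hσ, -⟩ := TopCat.Sheaf.existsUnique_gluing' ⟨_, M.isSheaf⟩ Us ⊤ (fun i => homOfLE le_top) hcov _ hcompat
  exact ⟨σ, fun U hU n hn => hσ ⟨U, hU, n, hn⟩⟩

/-- Frames of the middle term adapted to a short exact sequence of locally free modules. -/
theorem exists_adapted {N' : X.Modules} {r' e : ℕ} (hN' : FlatMod.IsFinLocFreeOfRank r' N')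
    (hE : FlatMod.IsFinLocFreeOfRank e E) (a : N' ⟶ N) (hab : a ≫ b = 0)
    (hex : (ShortComplex.mk a b hab).ShortExact) (x : X) :
    ∃ (U : X.Opens) (_ : IsAffineOpen U) (_ : x ∈ U) (n' : Fin r' → Γ(N', U)) (_ : IsFrame N' U n')
      (n : Fin (r' + e) → Γ(N, U)) (_ : IsFrame N U n),
      (∀ i, n (Fin.castAdd e i) = a.app U (n' i)) ∧ IsFrame E U fun l => b.app U (n (Fin.natAdd r' l)) := by
  classical
  obtain ⟨W, n', hxW, hn'⟩ := FinCov71.exists_isFrame_rank hN' x
  obtain ⟨W', f, hxW', hf⟩ := FinCov71.exists_isFrame_rank hE x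
  obtain ⟨U, hU, hxU, hUW⟩ := exists_isAffineOpen_mem_and_subset (x := x) (U := W ⊓ W') ⟨hxW, hxW'⟩
  have hn'U := Desc44.ProjBundle.isFrame_restrict hn' (hUW.trans inf_le_left)
  have hfU := Desc44.ProjBundle.isFrame_restrict hf (hUW.trans inf_le_right)
  haveI : E.IsQuasicoherent :=
    PerfTri.Betti.isQuasicoherent_of_isFinLocFree (ChowOp.isFinLocFree_of_rank hE)
  haveI : Epi b := hex.epi_g
  choose m hm using fun l => QCoh.app_surjective_of_epi b hU (Desc44.ProjBundle.rs E (hUW.trans inf_le_right) (f l))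
  refine ⟨U, hU, hxU, _, hn'U, Fin.append (fun i => a.app U (Desc44.ProjBundle.rs N' (hUW.trans inf_le_left) (n' i))) m,
    ?_, fun i => Fin.append_left _ _ i, ?_⟩
  · refine isFrame_of_stalkComb_bijective fun y hy => ?_
    obtain ⟨hinj, hexa, hsurj⟩ := PullStalk.Exact.stalk_exact hex y
    have hA := hn'U.stalkComb_bijective y hy
    have hB := hfU.stalkComb_bijective y hy
    set u := stalkComb N' (fun i => Desc44.ProjBundle.rs N' (hUW.trans inf_le_left) (n' i)) y hy
    set w := stalkComb E (fun i => Desc44.ProjBundle.rs E (hUW.trans inf_le_right) (f i)) y hy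
    set v := stalkComb N (Fin.append (fun i => a.app U (Desc44.ProjBundle.rs N' (hUW.trans inf_le_left) (n' i))) m) y hy
    have hv : ∀ c, v c = PullStalk.Exact.stalkLin a y (u fun i => c (Fin.castAdd e i)) +
        ∑ l, c (Fin.natAdd r' l) • germM N U y hy (m l) := fun c => by
      simp only [v, u, stalkComb, Fintype.linearCombination_apply, Fin.sum_univ_add, Fin.append_left,
        Fin.append_right, map_sum, map_smul, PullStalk.Exact.stalkLin_germ]
    have hw : ∀ c : Fin e → X.presheaf.stalk y,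
        PullStalk.Exact.stalkLin b y (∑ l, c l • germM N U y hy (m l)) = w c := fun c => by
      simp only [w, stalkComb, Fintype.linearCombination_apply, map_sum, map_smul, PullStalk.Exact.stalkLin_germ, hm]
    refine ⟨(injective_iff_map_eq_zero _).2 fun c hc => ?_, fun t => ?_⟩
    · have h1 := congrArg (PullStalk.Exact.stalkLin b y) ((hv c).symm.trans hc)
      rw [map_add, hexa.apply_apply_eq_zero, zero_add, hw, map_zero] at h1
      have h2 := (injective_iff_map_eq_zero w).1 hB.1 _ h1
      have h3 := (hv c).symm.trans hc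
      simp only [fun l => congrFun h2 l, Pi.zero_apply, zero_smul, Finset.sum_const_zero, add_zero] at h3
      have h4 := (injective_iff_map_eq_zero u).1 hA.1 _ ((injective_iff_map_eq_zero _).1 hinj _ h3)
      funext i
      refine Fin.addCases (fun i => ?_) (fun l => ?_) i
      · exact congrFun h4 i
      · exact congrFun h2 l
    · obtain ⟨c, hc⟩ := hB.2 (PullStalk.Exact.stalkLin b y t)
      have h1 : PullStalk.Exact.stalkLin b y (t - ∑ l, c l • germM N U y hy (m l)) = 0 := by
        rw [map_sub, hw, hc, sub_self]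
      obtain ⟨s, hs⟩ := (hexa _).1 h1
      obtain ⟨d, hd⟩ := hA.2 s
      refine ⟨Fin.append d c, ?_⟩
      rw [hv]
      simp only [Fin.append_left, Fin.append_right]
      rw [hd, hs, sub_add_cancel]
  · simp only [Fin.append_right, hm]
    exact hfU

end Groth.Agent.CycLib.DualBdl
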